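import Cfsg.Agent.H951.S69.Perm
import Cfsg.Agent.LieClassical.OrthForms
import Cfsg.Agent.H365.CubeF
import Cfsg.Agent.S2621

/-!
# S3469, T6: no chief factor with the quotient a group of semisimilitudes of minus type containing a reflection
-/

set_option autoImplicit false

universe u v

namespace Cfsg.Agent.H951.S69

open Module QuadraticMap
open Cfsg Cfsg.Agent.ClassicalGeometry.Reflection Cfsg.Agent.ClassicalGeometry.GenReflections
  Cfsg.Agent.ClassicalGeometry.CartanDieudonne Cfsg.Agent.H146.Ore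
open Cfsg.Agent.H903.SylSemi Cfsg.Agent.H214.S69 Cfsg.Agent.ClassicalGeometry.OmegaIndex

variable {ι : Type} [Fintype ι] [DecidableEq ι] {F : Type} [Field F]

/-- an odd order element of the isometry group lies in the commutator subgroup -/
theorem mem_comm_of_odd (h2 : (2 : F) ≠ 0) {Q : QuadraticForm F (ι → F)} (hQ : (polarBilin Q).Nondegenerate)
    {g : Cfsg.isometryGroup F (⇑Q)} [Finite F] (hg : Odd (orderOf g)) :
    g ∈ commutator (Cfsg.isometryGroup F (⇑Q)) := by
  rw [← Abelianization.ker_of, MonoidHom.mem_ker]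
  have h1 : Abelianization.of g ^ 2 = 1 := by
    refine isometry_induction h2 Q hQ (fun g => Abelianization.of g ^ 2 = 1) (by rw [map_one, one_pow]) ?_ g
    intro z hz g hg
    rw [map_mul, mul_pow, hg, mul_one, ← map_pow, pow_two, reflIso_mul_self, map_one]
  have h3 : orderOf (Abelianization.of g) ∣ 2 := orderOf_dvd_of_pow_eq_one h1
  have h4 : orderOf (Abelianization.of g) ∣ orderOf g := orderOf_map_dvd _ _
  have h5 := Nat.dvd_gcd h3 h4
  rw [hg.coprime_two_left] at h5
  exact orderOf_eq_one_iff.1 (Nat.dvd_one.1 h5)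

section

variable [Fintype F] [CharP F 7] {G : Type u} [Group G] [Finite G] (K : Subgroup G) [K.Normal]

omit [Finite G] in
theorem no_mod (hs : Up8 (Fintype.card F) G) (Q : QuadraticForm F (ι → F)) (hQ : (polarBilin Q).Nondegenerate)
    (h8 : Fintype.card ι = 8)
    (hdisc : ∀ b : Basis (Fin 8) F (ι → F), ¬ IsSquare (Matrix.of fun i j => polar (⇑Q) (b i) (b j)).det)
    (hord : ∃ r, r.Prime ∧ r ∣ H202.T.mm (Fintype.card F) ∧ r ∣ Nat.card (Cfsg.isometryGroup F (⇑Q)))
    (fr : OFrame F (⇑Q) (G ⧸ K)) {V : Type v} [AddCommGroup V] [DistribMulAction (G ⧸ K) V] (hV : PMod 7 G K V)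
    (a : Cfsg.isometryGroup F (⇑Q)) (hdet : ((a : Matrix.GeneralLinearGroup ι F) : Matrix ι ι F).det = -1)
    (ha : pm Q a ∈ fr.H) : False := by
  have h7 : Fact (Nat.Prime 7) := ⟨by norm_num⟩
  have h2 : (2 : F) ≠ 0 := by
    intro h
    have h1 : ((2 : ℕ) : F) = 0 := by exact_mod_cast h
    have h3 := (CharP.cast_eq_zero_iff F 7 2).1 h1
    norm_num at h3
  -- the spectrum side
  obtain ⟨f, hf, hqf⟩ := hs.pow
  have hqodd : Odd (Fintype.card F) := by
    rw [hqf]
    exact Odd.pow (by decide)
  have h7q : 7 ∣ Fintype.card F := by rw [hqf]; exact dvd_pow_self 7 (by omega)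
  -- all isometries are in the frame
  have hneg : ∀ g : Cfsg.isometryGroup F (⇑Q), (∀ x, act Q g x = -x) → pm Q g = scal F (ι → F) (-1) := by
    intro g hg
    apply Equiv.ext
    intro x
    rw [pm_apply, hg, scal_apply, Units.val_neg, Units.val_one, neg_one_smul]
  have htop : fr.H.comap (pm Q) = ⊤ := by
    refine all_mem h2 hQ h8 hdisc _ ?_ ?_ a ha hdet
    · intro g hg
      exact fr.omega _ (omega_pm g hg)
    · intro g hg
      show pm Q g ∈ fr.H
      rw [hneg g hg]
      exact fr.scal_mem _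
  have hall : ∀ g, pm Q g ∈ fr.H := fun g => by
    have : g ∈ fr.H.comap (pm Q) := by rw [htop]; exact Subgroup.mem_top _
    exact this
  let Ψ : Cfsg.isometryGroup F (⇑Q) →* G ⧸ K := fr.Φ.comp ((pm Q).codRestrict fr.H hall)
  have hΨ : ∀ g, Ψ g = fr.Φ ⟨pm Q g, hall g⟩ := fun g => rfl
  have hker : ∀ g, Ψ g = 1 → ∃ b : Fˣ, pm Q g = scal F (ι → F) b := fun g hg => (fr.ker _).1 hg
  have hsq : ∀ g, Ψ g = 1 → g * g = 1 := by
    intro g hg
    obtain ⟨b, hb⟩ := hker g hg
    obtain ⟨z, hz, -⟩ := rep5 h2 hQ h8 0 0 0 (1 : F)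
    have h1 : act Q g z = (b : F) • z := by
      have := congrArg (fun y : Equiv.Perm (ι → F) => y z) hb
      simpa using this
    have h3 : Q (act Q g z) = Q z := act_isometry Q g z
    rw [h1, QuadraticMap.map_smul, hz] at h3
    have h4 : (b : F) * b = 1 := by simpa using h3
    apply pm_inj
    rw [map_mul, hb, map_one]
    apply Equiv.ext
    intro x
    rw [Equiv.Perm.mul_apply, scal_apply, scal_apply, smul_smul, h4, one_smul, Equiv.Perm.one_apply]
  have hop : ∀ (p : ℕ), p.Prime → p ≠ 2 → ∀ g, orderOf g = p → orderOf (Ψ g) = p := by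
    intro p hp hp2 g hg
    have : Fact p.Prime := ⟨hp⟩
    apply orderOf_eq_prime
    · rw [← map_pow, ← hg, pow_orderOf_eq_one, map_one]
    · intro h
      have h1 : orderOf g ∣ 2 := orderOf_dvd_of_pow_eq_one (by rw [pow_two]; exact hsq g h)
      rw [hg] at h1
      exact hp2 ((Nat.prime_dvd_prime_iff_eq hp Nat.prime_two).1 h1)
  let _ : DistribMulAction (Cfsg.isometryGroup F (⇑Q)) V := DistribMulAction.compHom V Ψ
  have hsm : ∀ (g : Cfsg.isometryGroup F (⇑Q)) (w : V), g • w = Ψ g • w := fun g w => rfl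
  have H : Hyp Q V := by
    refine ⟨h2, hQ, h8, hdisc, hV.exp, ?_, ?_, ?_⟩
    · -- norms
      intro c hc u hu huc w hw
      by_contra hne
      have hγ2 : orderOf (Ψ (reflIso Q c hc)) = 2 := by
        have : Fact (Nat.Prime 2) := ⟨Nat.prime_two⟩
        apply orderOf_eq_prime
        · rw [← map_pow, pow_two, reflIso_mul_self, map_one]
        · intro h
          obtain ⟨b, hb⟩ := hker _ h
          obtain ⟨z, hz, hcz, -⟩ := rep5 h2 hQ h8 c c c (1 : F)
          have h1 : ∀ x, act Q (reflIso Q c hc) x = (b : F) • x := by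
            intro x
            have := congrArg (fun y : Equiv.Perm (ι → F) => y x) hb
            simpa using this
          have h3 := h1 z
          rw [act_reflIso, hcz, mul_zero, zero_smul, sub_zero] at h3
          have hz0 : z ≠ 0 := by
            rintro rfl
            rw [QuadraticMap.map_zero] at hz
            exact one_ne_zero hz.symm
          have hb1 : (b : F) = 1 := by
            have h4 : ((b : F) - 1) • z = 0 := by rw [sub_smul, one_smul, ← h3, sub_self]
            rcases smul_eq_zero.1 h4 with h5 | h5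
            · exact sub_eq_zero.1 h5
            · exact absurd h5 hz0
          have h5 := h1 c
          rw [hb1, one_smul, act_reflIso, polar_self', mul_left_comm, inv_mul_cancel₀ hc, mul_one, two_smul] at h5
          have hc0 : c = 0 := by
            have : c - (c + c) = -c := by abel
            rw [this] at h5
            have h6 : (2 : F) • c = 0 := by
              rw [two_smul]
              nth_rewrite 1 [← h5]
              exact neg_add_cancel c
            exact (smul_eq_zero.1 h6).resolve_left h2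
          rw [hc0, QuadraticMap.map_zero] at hc
          exact hc rfl
      have hcomm : Ψ (reflIso Q c hc) * Ψ u = Ψ u * Ψ (reflIso Q c hc) := by
        have h1 := conj_refl hc hc u (Or.inl huc)
        rw [← map_mul, ← map_mul]
        congr 1
        rw [mul_inv_eq_iff_eq_mul] at h1
        exact h1.symm
      obtain ⟨x, hx⟩ := hV.nrm (Ψ (reflIso Q c hc)) (Ψ u) hcomm (by rw [hγ2]; norm_num)
        (hop 7 h7.out (by norm_num) u hu) w hw (by
          intro h
          apply hne
          rw [← h]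
          apply Finset.sum_congr rfl
          intro i _
          rw [hsm, map_pow])
      rw [hγ2] at hx
      exact hs.no98 x (by rw [hx]; norm_num)
    · intro g hg w
      rw [hsm]
      have : Ψ g = 1 := (fr.ker _).2 ⟨-1, hneg g hg⟩
      rw [this, one_smul]
    · intro w0 hw0
      let W : AddSubgroup V :=
        { carrier := {w | ∀ g ∈ commutator (Cfsg.isometryGroup F (⇑Q)), g • w = w}
          add_mem' := fun {x y} hx hy g hg => by rw [smul_add, hx g hg, hy g hg]
          zero_mem' := fun g _ => smul_zero g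
          neg_mem' := fun {x} hx g hg => by rw [smul_neg, hx g hg] }
      have hWmem : ∀ w, w ∈ W ↔ ∀ g ∈ commutator (Cfsg.isometryGroup F (⇑Q)), g • w = w := fun w => Iff.rfl
      rcases hV.irr W (by
        intro x w hw
        obtain ⟨y, rfl⟩ := fr.surj x
        rw [hWmem] at hw ⊢
        intro g hg
        obtain ⟨g', hg', h1⟩ := conj_comm (fr.semi _ (y⁻¹).2) g hg
        have h3 : Ψ g * fr.Φ y = fr.Φ y * Ψ g' := by
          rw [hΨ, hΨ, ← map_mul, ← map_mul]
          congr 1
          apply Subtype.ext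
          show pm Q g * (y : Equiv.Perm (ι → F)) = (y : Equiv.Perm (ι → F)) * pm Q g'
          rw [h1, Subgroup.coe_inv, inv_inv]
          group
        rw [hsm, smul_smul, h3, mul_smul, ← hsm, hw g' hg']) with h | h
      · have : w0 ∈ W := hw0
        rw [h] at this
        exact this
      · exfalso
        obtain ⟨r, hr, hrm, hrc⟩ := hord
        have : Fact r.Prime := ⟨hr⟩
        have hr2 := H202.T.ne_two_of_dvd hqodd hrm
        have hrq := H202.T.not_dvd_q hqodd hr hrm
        obtain ⟨s, hsr⟩ := exists_prime_orderOf_dvd_card' r hrc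
        have hsc : s ∈ commutator (Cfsg.isometryGroup F (⇑Q)) :=
          mem_comm_of_odd h2 hQ (by rw [hsr]; exact hr.odd_of_ne_two hr2)
        have hr7 : r ≠ 7 := by rintro rfl; exact hrq h7q
        have hΨs := hop r hr hr2 s hsr
        obtain ⟨v0, hv0⟩ := @exists_ne V hV.nontrivial 0
        have hv0W : v0 ∈ W := by rw [h]; exact AddSubgroup.mem_top _
        obtain ⟨x, hx⟩ := hV.fix (Ψ s) (by
          rw [hΨs]
          intro h1
          exact hr7 ((Nat.prime_dvd_prime_iff_eq h7.out hr).1 h1).symm) v0 hv0 (hv0W s hsc)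
        rw [hΨs] at hx
        have h1 := hs.up x
        rw [hx] at h1
        have h3 := h1.iso h7.out (by norm_num) h7q hqodd hr hrm (Dvd.intro_left 7 rfl)
        exact H202.T.not_dvd_q hqodd h7.out ((Dvd.intro r rfl).trans h3) h7q
  obtain ⟨v0, hv0⟩ := @exists_ne V hV.nontrivial 0
  exact hv0 (core H v0)

end

/-- **T6.** -/
theorem o_refl {F : Type} [Field F] [Fintype F] [CharP F 7] {G : Type u} [Group G] [Finite G]
    (hs : Up8 (Fintype.card F) G) (K : Subgroup G) [K.Normal] {a b : F} (hab : Aniso a b)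
    (fr : OFrame F (Cfsg.quadFormMinus 3 F a b) (G ⧸ K)) {V : Type v} [AddCommGroup V]
    [DistribMulAction (G ⧸ K) V] (hV : PMod 7 G K V)
    (A : Matrix ((Fin 3 ⊕ Fin 3) ⊕ Fin 2) ((Fin 3 ⊕ Fin 3) ⊕ Fin 2) F) (hd : A.det = -1)
    (hA : ∀ v, Cfsg.quadFormMinus 3 F a b (A.mulVec v) = Cfsg.quadFormMinus 3 F a b v) (y : ↥fr.H)
    (hy : ∀ v, y.1 v = A.mulVec v) : False := by
  have h7 : Fact (Nat.Prime 7) := ⟨by norm_num⟩
  obtain ⟨f, hf, hqf⟩ := hs.pow
  have hqodd : Odd (Fintype.card F) := by
    rw [hqf]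
    exact Odd.pow (by decide)
  have hq3 : 3 ≤ Fintype.card F := by
    have : 7 ^ 1 ≤ 7 ^ f := Nat.pow_le_pow_right (by norm_num) hf
    rw [hqf]
    omega
  have hdisc : ∀ e : Basis (Fin 8) F ((Fin 3 ⊕ Fin 3) ⊕ Fin 2 → F),
      ¬ IsSquare (Matrix.of fun i j => polar (Cfsg.quadFormMinus 3 F a b) (e i) (e j)).det := by
    intro e h
    have h1 := (S2621.result (F := F) rfl hqodd (m := 4) (by norm_num) a b hab e).1 h
    apply h1
    obtain ⟨k, hk⟩ := hqodd
    rw [hk]
    refine ⟨2 * k, ?_⟩
    omega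
  have hord : ∃ r, r.Prime ∧ r ∣ H202.T.mm (Fintype.card F) ∧
      r ∣ Nat.card (Cfsg.isometryGroup F (Cfsg.quadFormMinus 3 F a b)) := by
    obtain ⟨r, hr, hrm⟩ := H202.T.exists_prime_mm hq3
    refine ⟨r, hr, hrm, ?_⟩
    have hr2 := H202.T.ne_two_of_dvd hqodd hrm
    have h1 := H365.CubeF.ominus_eq (F := F) (m := 4) le_rfl a b hab
    have h3 : r ∣ Fintype.card F ^ 4 + 1 := by
      rw [← H202.T.two_mm hqodd]
      exact hrm.mul_left 2
    have h4 : r ∣ H365.CubeD.sD (Fintype.card F) 4 (Fintype.card F ^ 4 + 1) := by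
      unfold H365.CubeD.sD
      exact Dvd.dvd.mul_right (h3.mul_left _) _
    rw [← h1] at h4
    rcases hr.dvd_mul.1 h4 with h5 | h5
    · exfalso
      have h6 : r ∣ 2 ^ 2 := h5.trans (Nat.gcd_dvd_left _ _)
      exact hr2 ((Nat.prime_dvd_prime_iff_eq hr Nat.prime_two).1 (hr.dvd_of_dvd_pow h6))
    · refine h5.trans ((Subgroup.card_quotient_dvd_card _).trans (Subgroup.card_subgroup_dvd_card _))
  have hnd : (polarBilin (LieClassical.OrthForms.minusForm 3 F a b)).Nondegenerate := by
    have h1 := LieClassical.OrthForms.nondeg_minusForm (m := 3) (F := F) a b hab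
    exact ⟨fun x hx => h1 x hx, fun x hx => h1 x fun y => by rw [polar_comm]; exact hx y⟩
  have hAu : IsUnit A := by
    rw [Matrix.isUnit_iff_isUnit_det, hd]
    exact isUnit_one.neg
  obtain ⟨U, hU⟩ := hAu
  have hUm : U ∈ Cfsg.isometryGroup F (Cfsg.quadFormMinus 3 F a b) :=
    (mem_isometryGroup_iff _ _).2 fun v => by rw [hU, hA]
  have hcoe := LieClassical.OrthForms.coe_minusForm (m := 3) (F := F) a b
  generalize LieClassical.OrthForms.minusForm 3 F a b = Q at hnd hcoe
  generalize Cfsg.quadFormMinus 3 F a b = q at *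
  subst hcoe
  refine no_mod K hs Q hnd (by decide) hdisc hord fr hV ⟨U, hUm⟩ (by rw [hU, hd]) ?_
  have : pm Q ⟨U, hUm⟩ = y.1 := by
    apply Equiv.ext
    intro x
    rw [hy, pm_apply, act_apply, hU]
  rw [this]
  exact y.2

end Cfsg.Agent.H951.S69
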