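import Cfsg.Agent.H951.S69.Frob

/-!
# S3469, T6: modules of the isometry group on which 7-elements in stabilizers have norm zero
-/

set_option autoImplicit false

universe u v

namespace Cfsg.Agent.H951.S69

open Module QuadraticMap
open Cfsg.Agent.ClassicalGeometry.Reflection Cfsg.Agent.ClassicalGeometry.GenReflections
  Cfsg.Agent.ClassicalGeometry.CartanDieudonne Cfsg.Agent.H146.Ore

variable {ι : Type} [Fintype ι] [DecidableEq ι] {F : Type u} [Field F] [Finite F] {Q : QuadraticForm F (ι → F)}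

/-- The hypotheses. -/
structure Hyp (Q : QuadraticForm F (ι → F)) (V : Type v) [AddCommGroup V]
    [DistribMulAction (Cfsg.isometryGroup F (⇑Q)) V] : Prop where
  h2 : (2 : F) ≠ 0
  hQ : (polarBilin Q).Nondegenerate
  h8 : Fintype.card ι = 8
  hdisc : ∀ b : Basis (Fin 8) F (ι → F), ¬ IsSquare (Matrix.of fun i j => polar (⇑Q) (b i) (b j)).det
  h7 : ∀ v : V, 7 • v = 0
  hnorm : ∀ (c : ι → F) (hc : Q c ≠ 0) (u : Cfsg.isometryGroup F (⇑Q)), orderOf u = 7 → act Q u c = c →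
    ∀ v : V, reflIso Q c hc • v = v → ∑ i ∈ Finset.range 7, u ^ i • v = 0
  hneg : ∀ g : Cfsg.isometryGroup F (⇑Q), (∀ x, act Q g x = -x) → ∀ v : V, g • v = v
  hfix : ∀ v : V, (∀ g ∈ commutator (Cfsg.isometryGroup F (⇑Q)), g • v = v) → v = 0

section

variable {V : Type v} [AddCommGroup V] [DistribMulAction (Cfsg.isometryGroup F (⇑Q)) V] (H : Hyp Q V)

include H

omit [Finite F] in
theorem two_inj [Finite F] {v : V} (h : v = -v) : v = 0 := by
  have h3 : (2 : ℕ) • v = 0 := by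
    rw [two_nsmul]
    nth_rewrite 1 [h]
    exact neg_add_cancel _
  have h1 : addOrderOf v ∣ 2 := addOrderOf_dvd_of_nsmul_eq_zero h3
  have h4 : addOrderOf v ∣ 7 := addOrderOf_dvd_of_nsmul_eq_zero (H.h7 v)
  have h5 := Nat.dvd_gcd h1 h4
  exact AddMonoid.addOrderOf_eq_one_iff.1 (Nat.dvd_one.1 (by simpa using h5))

theorem pairs {c x y : ι → F} (hc : Q c ≠ 0) (hx : Q x ≠ 0) (hy : Q y ≠ 0) (hxy : Q y = Q x)
    (hns : ¬ IsSquare (Q c * Q x)) (hcx : polar (⇑Q) c x = 0) (hcy : polar (⇑Q) c y = 0)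
    (hxy0 : polar (⇑Q) x y = 0) {v : V} (hv : reflIso Q c hc • v = v) :
    (reflIso Q x hx * reflIso Q y hy) • v = v := by
  obtain ⟨e, he0, hel, ho⟩ := basis8 H.h2 H.hQ H.h8 H.hdisc hns
  have q0 : Q (e 0) ≠ 0 := by rw [he0]; exact hc
  have q1 : Q (e 1) ≠ 0 := by rw [hel 1 (by decide)]; exact hx
  have q2 : Q (e 2) ≠ 0 := by rw [hel 2 (by decide)]; exact hx
  obtain ⟨g, g0, g1, g2⟩ := exists_triple H.h2 (Q := Q) (a := e 0) (b := e 1) (c := e 2) (a' := c) (b' := x) (c' := y)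
    he0 (hel 1 (by decide)) (by rw [hel 2 (by decide), hxy]) hc hx hy (ho 0 1 (by decide)) (ho 0 2 (by decide))
    (ho 1 2 (by decide)) hcx hcy hxy0
  have c0 := conj_refl q0 hc g (Or.inl g0)
  have c1 := conj_refl q1 hx g (Or.inl g1)
  have c2 := conj_refl q2 hy g (Or.inl g2)
  have hv' : reflIso Q (e 0) q0 • (g⁻¹ • v) = g⁻¹ • v := by
    have h3 : reflIso Q (e 0) q0 * g⁻¹ = g⁻¹ * reflIso Q c hc := by rw [← c0]; group
    rw [smul_smul, h3, ← smul_smul, hv]
  have h4 := frob H.h2 H.hQ e q0 hel ho H.h7 (H.hnorm _ q0) hv' 1 2 (by decide) (by decide) q1 q2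
  have h5 : reflIso Q x hx * reflIso Q y hy = g * (reflIso Q (e 1) q1 * reflIso Q (e 2) q2) * g⁻¹ := by
    rw [← c1, ← c2]; group
  rw [h5, mul_smul, mul_smul, h4, smul_inv_smul]

theorem trans {c x y : ι → F} (hc : Q c ≠ 0) (hx : Q x ≠ 0) (hy : Q y ≠ 0) (hxy : Q y = Q x)
    (hns : ¬ IsSquare (Q c * Q x)) (hcx : polar (⇑Q) c x = 0) (hcy : polar (⇑Q) c y = 0)
    {v : V} (hv : reflIso Q c hc • v = v) : (reflIso Q x hx * reflIso Q y hy) • v = v := by
  obtain ⟨z, hz, hcz, hxz, hyz⟩ := rep5 H.h2 H.hQ H.h8 c x y (Q x)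
  have qz : Q z ≠ 0 := by rw [hz]; exact hx
  have h1 := pairs H hc hx qz hz hns hcx hcz hxz hv
  have h3 := pairs H hc qz hy (by rw [hxy, hz]) (by rw [hz]; exact hns) hcz hcy (by rw [polar_comm]; exact hyz) hv
  have h4 : reflIso Q x hx * reflIso Q y hy =
      (reflIso Q x hx * reflIso Q z qz) * (reflIso Q z qz * reflIso Q y hy) := by
    rw [mul_assoc, ← mul_assoc (reflIso Q z qz), reflIso_mul_self, one_mul]
  rw [h4, mul_smul, h3, h1]

theorem spread {c d x : ι → F} (hc : Q c ≠ 0) (hd : Q d ≠ 0) (hx : Q x ≠ 0) (hcd : polar (⇑Q) c d = 0)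
    (hns : ¬ IsSquare (Q c * Q d)) (hcx : polar (⇑Q) c x = 0) (hxd : Q x = Q d) {v : V}
    (hv : reflIso Q c hc • v = v) (hv' : reflIso Q d hd • v = v) : reflIso Q x hx • v = v := by
  have h1 := trans H hc hx hd hxd.symm (by rw [hxd]; exact hns) hcx hcd hv
  rwa [mul_smul, hv'] at h1

theorem classA {c d a : ι → F} (hc : Q c ≠ 0) (hd : Q d ≠ 0) (ha : Q a ≠ 0) (hcd : polar (⇑Q) c d = 0)
    (hns : ¬ IsSquare (Q c * Q d)) (hac : Q a = Q c) {v : V}
    (hv : reflIso Q c hc • v = v) (hv' : reflIso Q d hd • v = v) : reflIso Q a ha • v = v := by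
  obtain ⟨z, hz, haz, hcz, -⟩ := rep5 H.h2 H.hQ H.h8 a c c (Q d)
  have qz : Q z ≠ 0 := by rw [hz]; exact hd
  have h1 := spread H hc hd qz hcd hns hcz hz hv hv'
  exact spread H qz hc ha (by rw [polar_comm]; exact hcz) (by rw [hz, mul_comm]; exact hns)
    (by rw [polar_comm]; exact haz) hac h1 hv

theorem scale {a z : ι → F} (ha : Q a ≠ 0) (hz : Q z ≠ 0) (h : IsSquare (Q z * Q a)) :
    ∃ x, ∃ hx : Q x ≠ 0, Q x = Q a ∧ reflIso Q x hx = reflIso Q z hz := by
  obtain ⟨r, hr⟩ := h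
  have hr0 : r ≠ 0 := by
    rintro rfl
    rw [mul_zero] at hr
    exact (mul_ne_zero hz ha) hr
  have ht : r * (Q z)⁻¹ ≠ 0 := mul_ne_zero hr0 (inv_ne_zero hz)
  have hq : Q ((r * (Q z)⁻¹) • z) = Q a := by
    rw [QuadraticMap.map_smul]
    simp only [smul_eq_mul]
    field_simp
    linear_combination -hr
  exact ⟨_, by rw [hq]; exact ha, hq, reflIso_smul hz ht _⟩

theorem fixall {c d : ι → F} (hc : Q c ≠ 0) (hd : Q d ≠ 0) (hcd : polar (⇑Q) c d = 0)
    (hns : ¬ IsSquare (Q c * Q d)) {v : V} (hv : reflIso Q c hc • v = v) (hv' : reflIso Q d hd • v = v) :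
    v = 0 := by
  apply H.hfix
  intro g _
  refine isometry_induction H.h2 Q H.hQ (fun g => g • v = v) (one_smul _ _) ?_ g
  intro z hz g hg
  rw [mul_smul, hg]
  by_cases h : IsSquare (Q z * Q c)
  · obtain ⟨x, hx, hxc, h1⟩ := scale H hc hz h
    rw [← h1]
    exact classA H hc hd hx hcd hns hxc hv hv'
  · have h' : IsSquare (Q z * Q d) := by
      by_contra h'
      apply hns
      obtain ⟨r, hr⟩ := isSquare_mul_of_not h h'
      refine ⟨r * (Q z)⁻¹, ?_⟩
      field_simp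
      linear_combination hr
    obtain ⟨x, hx, hxc, h1⟩ := scale H hd hz h'
    rw [← h1]
    exact classA H hd hc hx (by rw [polar_comm]; exact hcd) (by rw [mul_comm]; exact hns) hxc hv' hv

theorem negd {c d : ι → F} (hc : Q c ≠ 0) (hd : Q d ≠ 0) (hcd : polar (⇑Q) c d = 0)
    (hns : ¬ IsSquare (Q c * Q d)) {v : V} (hv : reflIso Q c hc • v = v) : reflIso Q d hd • v = -v := by
  have h1 : reflIso Q d hd * reflIso Q c hc * (reflIso Q d hd)⁻¹ = reflIso Q c hc := by
    apply conj_refl hc hc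
    left
    rw [act_reflIso, polar_comm, hcd, mul_zero, zero_smul, sub_zero]
  have h3 : reflIso Q c hc * reflIso Q d hd = reflIso Q d hd * reflIso Q c hc := by
    rw [mul_inv_eq_iff_eq_mul] at h1
    exact h1.symm
  have h4 : v + reflIso Q d hd • v = 0 := by
    apply fixall H hc hd hcd hns
    · rw [smul_add, hv, smul_smul, h3, mul_smul, hv]
    · rw [smul_add, smul_smul, reflIso_mul_self, one_smul, add_comm]
  exact (neg_eq_of_add_eq_zero_right h4).symm

theorem exists_ns : ∃ n : F, ¬ IsSquare n :=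
  FiniteField.exists_nonsquare (by
    intro h
    exact H.h2 (by
      have := CharP.cast_eq_zero F (ringChar F)
      rw [h] at this
      exact_mod_cast this))

theorem w_zero {c : ι → F} (hc : Q c ≠ 0) {v : V} (hv : reflIso Q c hc • v = v) : v = 0 := by
  obtain ⟨n, hn⟩ := exists_ns H
  have hn0 : n ≠ 0 := by rintro rfl; exact hn ⟨0, by simp⟩
  have hns : ¬ IsSquare (Q c * (Q c * n)) := by
    intro ⟨r, hr⟩
    apply hn
    refine ⟨(Q c)⁻¹ * r, ?_⟩
    field_simp
    linear_combination hr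
  obtain ⟨e, he0, hel, ho⟩ := basis8 H.h2 H.hQ H.h8 H.hdisc hns
  have hq : ∀ i, Q (e i) ≠ 0 := by
    intro i
    by_cases h : i = 0
    · rw [h, he0]; exact hc
    · rw [hel i h]; exact mul_ne_zero hc hn0
  obtain ⟨g, hg, -⟩ := exists_fix H.h2 (Q := Q) he0 hc
  have c0 := conj_refl (hq 0) hc g (Or.inl hg)
  have hv' : reflIso Q (e 0) (hq 0) • (g⁻¹ • v) = g⁻¹ • v := by
    have h3 : reflIso Q (e 0) (hq 0) * g⁻¹ = g⁻¹ * reflIso Q c hc := by rw [← c0]; group
    rw [smul_smul, h3, ← smul_smul, hv]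
  have hneg : ∀ i, i ≠ 0 → reflIso Q (e i) (hq i) • (g⁻¹ • v) = -(g⁻¹ • v) := by
    intro i hi
    exact negd H (hq 0) (hq i) (ho 0 i hi.symm) (by rw [he0, hel i hi]; exact hns) hv'
  have hγ : ∀ i k, act Q (reflIso Q (e i) (hq i)) (e k) = if i = k then -e k else e k := by
    intro i k
    by_cases h : i = k
    · subst h
      rw [if_pos rfl, act_reflIso, polar_self']
      have : (Q (e i))⁻¹ * (2 * Q (e i)) = 2 := by
        have := hq i
        field_simp
      rw [this, two_smul]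
      abel
    · rw [if_neg h, act_reflIso, ho i k h, mul_zero, zero_smul, sub_zero]
  let P : Cfsg.isometryGroup F (⇑Q) := reflIso Q (e 0) (hq 0) * (reflIso Q (e 1) (hq 1) * (reflIso Q (e 2) (hq 2) *
    (reflIso Q (e 3) (hq 3) * (reflIso Q (e 4) (hq 4) * (reflIso Q (e 5) (hq 5) * (reflIso Q (e 6) (hq 6) *
    reflIso Q (e 7) (hq 7)))))))
  have hP : act Q P = -LinearMap.id := by
    apply e.ext
    intro k
    simp only [P, act_mul]
    fin_cases k <;> simp [hγ]
  have h1 : P • (g⁻¹ • v) = g⁻¹ • v := by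
    apply H.hneg
    intro x
    rw [hP]
    rfl
  have h3 : P • (g⁻¹ • v) = -(g⁻¹ • v) := by
    simp only [P, mul_smul, hneg 7 (by decide), hneg 6 (by decide), hneg 5 (by decide), hneg 4 (by decide),
      hneg 3 (by decide), hneg 2 (by decide), hneg 1 (by decide), smul_neg, neg_neg, hv']
  have h4 : g⁻¹ • v = 0 := two_inj H (h1.symm.trans h3)
  rw [← smul_inv_smul g v, h4, smul_zero]

/-- **The module is zero.** -/
theorem core (v : V) : v = 0 := by
  have h1 : ∀ (c : ι → F) (hc : Q c ≠ 0) (w : V), reflIso Q c hc • w = -w := by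
    intro c hc w
    have h3 : w + reflIso Q c hc • w = 0 := by
      apply w_zero H hc
      rw [smul_add, smul_smul, reflIso_mul_self, one_smul, add_comm]
    exact (neg_eq_of_add_eq_zero_right h3).symm
  have h3 : ∀ g : Cfsg.isometryGroup F (⇑Q), (∀ w : V, g • w = w) ∨ (∀ w : V, g • w = -w) := by
    intro g
    refine isometry_induction H.h2 Q H.hQ (fun g => (∀ w : V, g • w = w) ∨ (∀ w : V, g • w = -w))
      (Or.inl fun w => one_smul _ _) ?_ g
    intro z hz g hg
    rcases hg with h | h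
    · right
      intro w
      rw [mul_smul, h, h1]
    · left
      intro w
      rw [mul_smul, h, smul_neg, h1, neg_neg]
  let S : Subgroup (Cfsg.isometryGroup F (⇑Q)) :=
    { carrier := {g | ∀ w : V, g • w = w}
      one_mem' := fun w => one_smul _ _
      mul_mem' := fun {a b} ha hb w => by rw [mul_smul, hb w, ha w]
      inv_mem' := fun {a} ha w => by rw [inv_smul_eq_iff, ha w] }
  have hS : commutator (Cfsg.isometryGroup F (⇑Q)) ≤ S := by
    rw [commutator_def, Subgroup.commutator_le]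
    intro a _ b _ w
    rw [commutatorElement_def]
    have hinv : ∀ g : Cfsg.isometryGroup F (⇑Q), (∀ w : V, g • w = -w) → ∀ w : V, g⁻¹ • w = -w := by
      intro g hg w
      rw [inv_smul_eq_iff, smul_neg, hg, neg_neg]
    have hinv' : ∀ g : Cfsg.isometryGroup F (⇑Q), (∀ w : V, g • w = w) → ∀ w : V, g⁻¹ • w = w := by
      intro g hg w
      rw [inv_smul_eq_iff, hg]
    rcases h3 a with ha | ha <;> rcases h3 b with hb | hb
    · rw [mul_smul, mul_smul, mul_smul, hinv' b hb, hinv' a ha, hb, ha]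
    · rw [mul_smul, mul_smul, mul_smul, hinv b hb, hinv' a ha, hb, ha, neg_neg]
    · rw [mul_smul, mul_smul, mul_smul, hinv' b hb, hinv a ha, hb, ha, neg_neg]
    · rw [mul_smul, mul_smul, mul_smul, hinv b hb, hinv a ha, hb, ha]
      simp
  exact H.hfix v fun g hg => hS hg v

end

end Cfsg.Agent.H951.S69
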