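import Cfsg.Agent.H951.S69.Geo

/-!
# S3469, T6: the group `2^6 : 7` in the stabilizer of a vector
-/

set_option autoImplicit false

universe u v

namespace Cfsg.Agent.H951.S69

open Module QuadraticMap
open Cfsg.Agent.ClassicalGeometry.Reflection Cfsg.Agent.ClassicalGeometry.GenReflections
  Cfsg.Agent.ClassicalGeometry.CartanDieudonne Cfsg.Agent.H146.Ore

/-! ### fixed vectors of an element as a module for the centralizer -/

section FixS

variable {G V : Type*} [Group G] [AddCommGroup V] [DistribMulAction G V]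

/-- The fixed vectors of `a`. -/
def FixS (V : Type*) [AddCommGroup V] [DistribMulAction G V] (a : G) : AddSubgroup V where
  carrier := {v | a • v = v}
  add_mem' := by
    intro x y hx hy
    show a • (x + y) = x + y
    rw [smul_add, show a • x = x from hx, show a • y = y from hy]
  zero_mem' := smul_zero a
  neg_mem' := by
    intro x hx
    show a • (-x) = -x
    rw [smul_neg, show a • x = x from hx]

theorem mem_FixS {a : G} {v : V} : v ∈ FixS V a ↔ a • v = v := Iff.rfl

/-- The action of the centralizer on the fixed vectors. -/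
@[reducible] def actFixS (V : Type*) [AddCommGroup V] [DistribMulAction G V] (a : G) :
    DistribMulAction (Subgroup.centralizer ({a} : Set G)) (FixS V a) where
  smul g v := ⟨(g : G) • (v : V), by
    rw [mem_FixS, smul_smul, ← Subgroup.mem_centralizer_singleton_iff.1 g.2, ← smul_smul, mem_FixS.1 v.2]⟩
  one_smul v := Subtype.ext (one_smul G (v : V))
  mul_smul g h v := Subtype.ext (mul_smul (g : G) (h : G) (v : V))
  smul_zero g := Subtype.ext (smul_zero (g : G))
  smul_add g v w := Subtype.ext (smul_add (g : G) (v : V) (w : V))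

end FixS

variable {ι : Type} [Fintype ι] [DecidableEq ι] {F : Type u} [Field F] {Q : QuadraticForm F (ι → F)}

/-- the 7-cycle on `{1, ..., 7}` -/
def cyc7 : Equiv.Perm (Fin 8) where
  toFun := ![0, 2, 3, 4, 5, 6, 7, 1]
  invFun := ![0, 7, 1, 2, 3, 4, 5, 6]
  left_inv := by decide
  right_inv := by decide

theorem cyc7_zero : cyc7 0 = 0 := by decide

theorem cyc7_pow : cyc7 ^ 7 = 1 := by decide

theorem cyc7_one : cyc7 1 = 2 := by decide

theorem cyc7_ne_zero : ∀ i, i ≠ 0 → cyc7 i ≠ 0 := by decide

theorem cyc7_inv : ∀ i, cyc7⁻¹ (cyc7 i) = i := by decide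

/-- everything is in the orbit of `1` -/
theorem cyc7_ind (P : Fin 8 → Prop) (h : ∀ i, P i → P (cyc7 i)) (h1 : P 1) : ∀ i, i ≠ 0 → P i := by
  have h2 : P 2 := h 1 h1
  have h3 : P 3 := h 2 h2
  have h4 : P 4 := h 3 h3
  have h5 : P 5 := h 4 h4
  have h6 : P 6 := h 5 h5
  have h7 : P 7 := h 6 h6
  intro i hi
  fin_cases i
  · exact absurd rfl hi
  all_goals assumption

theorem act_comp (g h : Cfsg.isometryGroup F (⇑Q)) : act Q (g * h) = act Q g ∘ₗ act Q h :=
  LinearMap.ext fun x => act_mul Q g h x

theorem act_one' : act Q (1 : Cfsg.isometryGroup F (⇑Q)) = LinearMap.id := LinearMap.ext fun x => act_one Q x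

theorem act_inv_comp (g : Cfsg.isometryGroup F (⇑Q)) : act Q g⁻¹ ∘ₗ act Q g = LinearMap.id := by
  rw [← act_comp, inv_mul_cancel, act_one']

theorem act_comp_inv (g : Cfsg.isometryGroup F (⇑Q)) : act Q g ∘ₗ act Q g⁻¹ = LinearMap.id := by
  rw [← act_comp, mul_inv_cancel, act_one']

theorem act_neg' (g : Cfsg.isometryGroup F (⇑Q)) (x : ι → F) : act Q g (-x) = -act Q g x := map_neg _ _

/-- **The Frobenius group `2^6 : 7`.** -/
theorem frob [Finite F] (h2 : (2 : F) ≠ 0) (hQ : (polarBilin Q).Nondegenerate) {l : F}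
    (e : Basis (Fin 8) F (ι → F)) (he0 : Q (e 0) ≠ 0) (hel : ∀ i, i ≠ 0 → Q (e i) = l)
    (ho : ∀ i j, i ≠ j → polar (⇑Q) (e i) (e j) = 0)
    {V : Type v} [AddCommGroup V] [DistribMulAction (Cfsg.isometryGroup F (⇑Q)) V] (h7 : ∀ v : V, 7 • v = 0)
    (hnorm : ∀ u : Cfsg.isometryGroup F (⇑Q), orderOf u = 7 → act Q u (e 0) = e 0 → ∀ v : V,
      reflIso Q (e 0) he0 • v = v → ∑ i ∈ Finset.range 7, u ^ i • v = 0)
    {v : V} (hv : reflIso Q (e 0) he0 • v = v) (i j : Fin 8) (hi : i ≠ 0) (hj : j ≠ 0)
    (hqi : Q (e i) ≠ 0) (hqj : Q (e j) ≠ 0) : (reflIso Q (e i) hqi * reflIso Q (e j) hqj) • v = v := by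
  classical
  -- the 7-cycle
  obtain ⟨u, hu⟩ := exists_of_basis h2 hQ e (fun i => e (cyc7 i)) (by
    intro i j
    by_cases hij : i = j
    · subst hij
      rw [polar_self', polar_self']
      by_cases h0 : i = 0
      · rw [h0, cyc7_zero]
      · rw [hel _ (cyc7_ne_zero i h0), hel _ h0]
    · rw [ho i j hij, ho _ _ (fun h => hij (cyc7.injective h))])
  have hupow : ∀ n : ℕ, ∀ i, act Q (u ^ n) (e i) = e ((cyc7 ^ n) i) := by
    intro n
    induction n with
    | zero => intro i; rw [pow_zero, act_one, pow_zero, Equiv.Perm.one_apply]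
    | succ n ih =>
      intro i
      rw [pow_succ, act_mul, hu, ih, pow_succ, Equiv.Perm.mul_apply]
  have ext_e : ∀ g h : Cfsg.isometryGroup F (⇑Q), (∀ i, act Q g (e i) = act Q h (e i)) → g = h := by
    intro g h hgh
    apply act_ext
    intro x
    have : act Q g = act Q h := e.ext hgh
    rw [this]
  have hu7 : u ^ 7 = 1 := by
    apply ext_e
    intro i
    rw [hupow, cyc7_pow, Equiv.Perm.one_apply, act_one]
  have hu1 : u ≠ 1 := by
    intro h
    have h3 := hu 1
    rw [h, act_one, cyc7_one] at h3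
    exact absurd (e.injective h3) (by decide)
  have : Fact (Nat.Prime 7) := ⟨by norm_num⟩
  have hord : orderOf u = 7 := orderOf_eq_prime hu7 hu1
  have hu0 : act Q u (e 0) = e 0 := by rw [hu, cyc7_zero]
  -- the centralizer of the reflection
  have hcent : ∀ g : Cfsg.isometryGroup F (⇑Q), act Q g (e 0) = e 0 →
      g ∈ Subgroup.centralizer ({reflIso Q (e 0) he0} : Set (Cfsg.isometryGroup F (⇑Q))) := by
    intro g hg
    rw [Subgroup.mem_centralizer_singleton_iff]
    apply act_ext
    intro x
    rw [act_mul, act_mul, act_reflIso, act_reflIso, map_sub, map_smul, hg]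
    congr 3
    conv_rhs => rw [← hg]
    rw [act_polar]
  let C : Subgroup (Cfsg.isometryGroup F (⇑Q)) :=
    Subgroup.centralizer ({reflIso Q (e 0) he0} : Set (Cfsg.isometryGroup F (⇑Q)))
  let _ : DistribMulAction C (FixS V (reflIso Q (e 0) he0)) := actFixS V (reflIso Q (e 0) he0)
  -- the group of even sign changes
  let N : Subgroup C :=
    { carrier := {n | (∀ i, act Q n.1 (e i) = e i ∨ act Q n.1 (e i) = -e i) ∧ act Q n.1 (e 0) = e 0 ∧
        LinearMap.det (act Q n.1) = 1}
      one_mem' := by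
        refine ⟨fun i => Or.inl (act_one Q _), act_one Q _, ?_⟩
        show LinearMap.det (act Q (1 : Cfsg.isometryGroup F (⇑Q))) = 1
        rw [act_one', LinearMap.det_id]
      mul_mem' := by
        rintro a b ⟨ha, ha0, had⟩ ⟨hb, hb0, hbd⟩
        refine ⟨fun i => ?_, ?_, ?_⟩
        · show act Q (a.1 * b.1) (e i) = e i ∨ act Q (a.1 * b.1) (e i) = -e i
          rw [act_mul]
          rcases hb i with h | h <;> rcases ha i with h' | h'
          · left; rw [h, h']
          · right; rw [h, h']
          · right; rw [h, map_neg, h']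
          · left; rw [h, map_neg, h', neg_neg]
        · show act Q (a.1 * b.1) (e 0) = e 0
          rw [act_mul, hb0, ha0]
        · show LinearMap.det (act Q (a.1 * b.1)) = 1
          rw [act_comp, LinearMap.det_comp, had, hbd, one_mul]
      inv_mem' := by
        rintro a ⟨ha, ha0, had⟩
        refine ⟨fun i => ?_, ?_, ?_⟩
        · show act Q (a.1)⁻¹ (e i) = e i ∨ act Q (a.1)⁻¹ (e i) = -e i
          rcases ha i with h | h
          · left; exact act_inv_eq Q _ _ _ h
          · right
            apply act_inv_eq Q _ _ _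
            rw [map_neg, h, neg_neg]
        · exact act_inv_eq Q _ _ _ ha0
        · show LinearMap.det (act Q (a.1)⁻¹) = 1
          have h3 := congrArg LinearMap.det (act_inv_comp a.1)
          rw [LinearMap.det_comp, had, mul_one, LinearMap.det_id] at h3
          exact h3 }
  have hNmem : ∀ n : C, n ∈ N ↔ (∀ i, act Q n.1 (e i) = e i ∨ act Q n.1 (e i) = -e i) ∧ act Q n.1 (e 0) = e 0 ∧
        LinearMap.det (act Q n.1) = 1 := fun n => Iff.rfl
  let x : C := ⟨u, hcent u hu0⟩
  have hx : orderOf x = 7 := by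
    rw [← hord]
    exact (Subgroup.orderOf_coe x).symm
  have hfinG : Finite (Cfsg.isometryGroup F (⇑Q)) := by
    have : Finite (Matrix ι ι F) := inferInstance
    have : Finite (Matrix.GeneralLinearGroup ι F) := by
      unfold Matrix.GeneralLinearGroup; infer_instance
    infer_instance
  have hfinN : Finite N := inferInstance
  have hsum : ∀ w : FixS V (reflIso Q (e 0) he0), ∑ i ∈ Finset.range 7, x ^ i • w = 0 := by
    intro w
    apply Subtype.ext
    rw [AddSubgroup.val_finsetSum, AddSubgroup.coe_zero, ← hnorm u hord hu0 w w.2]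
    refine Finset.sum_congr rfl fun i _ => ?_
    show ((x ^ i : C) : Cfsg.isometryGroup F (⇑Q)) • (w : V) = _
    rw [SubgroupClass.coe_pow]
  have hui : ∀ i, act Q u⁻¹ (e (cyc7 i)) = e i := fun i => act_inv_eq Q _ _ _ (hu i)
  have hsurj : ∀ i, ∃ k, cyc7 k = i := cyc7.surjective
  have hconj : ∀ n ∈ N, x * n * x⁻¹ ∈ N := by
    intro n hn
    rw [hNmem] at hn
    obtain ⟨hn1, hn0, hnd⟩ := hn
    have hact : ∀ y, act Q (x * n * x⁻¹ : C).1 y = act Q u (act Q n.1 (act Q u⁻¹ y)) := by
      intro y
      show act Q (u * n.1 * u⁻¹) y = _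
      rw [act_mul, act_mul]
    rw [hNmem]
    refine ⟨fun i => ?_, ?_, ?_⟩
    · obtain ⟨k, rfl⟩ := hsurj i
      rw [hact, hui]
      rcases hn1 k with h | h
      · left; rw [h, hu]
      · right; rw [h, map_neg, hu]
    · rw [hact]
      have := hui 0
      rw [cyc7_zero] at this
      rw [this, hn0, hu0]
    · have h1 : act Q (x * n * x⁻¹ : C).1 = act Q u ∘ₗ act Q n.1 ∘ₗ act Q u⁻¹ := LinearMap.ext hact
      have h4 := congrArg LinearMap.det (act_comp_inv u)
      rw [LinearMap.det_comp, LinearMap.det_id] at h4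
      rw [h1, LinearMap.det_comp, LinearMap.det_comp, hnd, one_mul, h4]
  have hne : ∀ i, e i ≠ -e i := by
    intro i h
    have h3 : (2 : F) • e i = 0 := by
      rw [two_smul]
      nth_rewrite 1 [h]
      exact neg_add_cancel _
    exact (smul_ne_zero h2 (e.ne_zero i)) h3
  have hfix : ∀ n ∈ N, x * n * x⁻¹ = n → n = 1 := by
    intro n hn hxn
    rw [hNmem] at hn
    obtain ⟨hn1, hn0, hnd⟩ := hn
    have hcomm : u * n.1 = n.1 * u := by
      have h3 := mul_inv_eq_iff_eq_mul.1 hxn
      exact congrArg Subtype.val h3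
    have hstep : ∀ i, act Q n.1 (e i) = -e i → act Q n.1 (e (cyc7 i)) = -e (cyc7 i) := by
      intro i hi
      rw [← hu, ← act_mul, ← hcomm, act_mul, hi, map_neg]
    have hstep' : ∀ i, act Q n.1 (e i) = e i → act Q n.1 (e (cyc7 i)) = e (cyc7 i) := by
      intro i hi
      rw [← hu, ← act_mul, ← hcomm, act_mul, hi]
    rcases hn1 1 with h1 | h1
    · have h3 := cyc7_ind (fun i => act Q n.1 (e i) = e i) hstep' h1
      apply Subtype.ext
      apply ext_e
      intro i
      rw [show ((1 : C) : Cfsg.isometryGroup F (⇑Q)) = 1 from rfl, act_one]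
      by_cases hi : i = 0
      · rw [hi]; exact hn0
      · exact h3 i hi
    · exfalso
      have h3 := cyc7_ind (fun i => act Q n.1 (e i) = -e i) hstep h1
      have hm : LinearMap.toMatrix e e (act Q n.1) = Matrix.diagonal (fun i : Fin 8 => if i = 0 then (1 : F) else -1) := by
        ext i j
        rw [LinearMap.toMatrix_apply, Matrix.diagonal_apply]
        by_cases hj0 : j = 0
        · rw [hj0, hn0, Basis.repr_self, Finsupp.single_apply]
          by_cases h : i = 0
          · rw [h, if_pos rfl, if_pos rfl, if_pos rfl]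
          · rw [if_neg (fun h' => h h'.symm), if_neg h]
        · rw [h3 j hj0, map_neg, Basis.repr_self, Finsupp.neg_apply, Finsupp.single_apply]
          by_cases h : i = j
          · rw [if_pos h.symm, if_pos h, if_neg (by rw [h]; exact hj0)]
          · rw [if_neg (fun h' => h h'.symm), if_neg h, neg_zero]
      rw [← LinearMap.det_toMatrix e, hm, Matrix.det_diagonal, Fin.prod_univ_eight] at hnd
      simp at hnd
      apply h2
      linear_combination -hnd
  -- `N` is a 2-group
  have hN2 : IsPGroup 2 N := by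
    intro n
    refine ⟨1, ?_⟩
    rw [pow_one]
    apply Subtype.ext
    apply Subtype.ext
    apply ext_e
    intro i
    show act Q ((n.1.1) ^ 2) (e i) = act Q 1 (e i)
    rw [pow_two, act_mul, act_one]
    rcases (hNmem _).1 n.2 |>.1 i with h | h
    · rw [h, h]
    · rw [h, map_neg, h, neg_neg]
  have hpN : ∀ w : FixS V (reflIso Q (e 0) he0), Nat.card N • w = 0 → w = 0 := by
    intro w hw
    obtain ⟨k, hk⟩ := IsPGroup.iff_card.1 hN2
    rw [hk] at hw
    have h1 : addOrderOf w ∣ 2 ^ k := addOrderOf_dvd_of_nsmul_eq_zero hw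
    have h3 : addOrderOf w ∣ 7 := addOrderOf_dvd_of_nsmul_eq_zero (Subtype.ext (h7 w))
    have hcop : Nat.Coprime (2 ^ k) 7 := Nat.Coprime.pow_left k (by norm_num)
    have h4 : addOrderOf w ∣ 1 := by
      have := Nat.dvd_gcd h1 h3
      rwa [hcop] at this
    exact AddMonoid.addOrderOf_eq_one_iff.1 (Nat.dvd_one.1 h4)
  -- the product of two reflections
  have hr0 : ∀ k (hk : k ≠ 0) (hqk : Q (e k) ≠ 0), act Q (reflIso Q (e k) hqk) (e 0) = e 0 := by
    intro k hk hqk
    rw [act_reflIso, ho k 0 hk, mul_zero, zero_smul, sub_zero]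
  have hr : ∀ k (hqk : Q (e k) ≠ 0) m, act Q (reflIso Q (e k) hqk) (e m) = e m ∨
      act Q (reflIso Q (e k) hqk) (e m) = -e m := by
    intro k hqk m
    by_cases h : k = m
    · subst h
      right
      rw [act_reflIso, polar_self']
      have : (Q (e k))⁻¹ * (2 * Q (e k)) = 2 := by field_simp
      rw [this, two_smul]
      abel
    · left
      rw [act_reflIso, ho k m h, mul_zero, zero_smul, sub_zero]
  have hdr : ∀ k (hqk : Q (e k) ≠ 0), LinearMap.det (act Q (reflIso Q (e k) hqk)) = -1 := by
    intro k hqk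
    have := det_reflIso Q (e k) hqk
    rw [← this]
    exact LinearMap.det_toLin' _
  let m : C := ⟨reflIso Q (e i) hqi * reflIso Q (e j) hqj, hcent _ (by rw [act_mul, hr0 j hj, hr0 i hi])⟩
  have hmN : m ∈ N := by
    rw [hNmem]
    refine ⟨fun k => ?_, ?_, ?_⟩
    · show act Q (reflIso Q (e i) hqi * reflIso Q (e j) hqj) (e k) = _ ∨
        act Q (reflIso Q (e i) hqi * reflIso Q (e j) hqj) (e k) = _
      rw [act_mul]
      rcases hr j hqj k with h | h <;> rcases hr i hqi k with h' | h'
      · left; rw [h, h']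
      · right; rw [h, h']
      · right; rw [h, map_neg, h']
      · left; rw [h, map_neg, h', neg_neg]
    · show act Q (reflIso Q (e i) hqi * reflIso Q (e j) hqj) (e 0) = _
      rw [act_mul, hr0 j hj, hr0 i hi]
    · show LinearMap.det (act Q (reflIso Q (e i) hqi * reflIso Q (e j) hqj)) = 1
      rw [act_comp, LinearMap.det_comp, hdr, hdr]
      norm_num
  have hfin := Cfsg.Agent.H422.smul_eq_of_frob (V := FixS V (reflIso Q (e 0) he0)) (by norm_num) hx hsum N hconj hfix
    hpN hmN ⟨v, hv⟩
  exact congrArg Subtype.val hfin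

end Cfsg.Agent.H951.S69
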