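import Cfsg.Agent.H146.Refl
import Cfsg.Agent.H422.ModBase
import Cfsg.Agent.ClassicalGeometry.Discriminant

/-!
# S3469, T6: geometry of an 8-dimensional quadratic form with nonsquare discriminant
-/

set_option autoImplicit false

universe u v

namespace Cfsg.Agent.H951.S69

open Module QuadraticMap
open Cfsg.Agent.ClassicalGeometry.Reflection Cfsg.Agent.ClassicalGeometry.GenReflections
  Cfsg.Agent.ClassicalGeometry.CartanDieudonne Cfsg.Agent.H146.Ore

variable {ι : Type} [Fintype ι] [DecidableEq ι] {F : Type u} [Field F] {Q : QuadraticForm F (ι → F)}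

/-- Isometries from isometric families. -/
theorem exists_of_basis (h2 : (2 : F) ≠ 0) (hQ : (polarBilin Q).Nondegenerate) {κ : Type*} (e : Basis κ F (ι → F))
    (f : κ → ι → F) (h : ∀ i j, polar (⇑Q) (f i) (f j) = polar (⇑Q) (e i) (e j)) :
    ∃ g : Cfsg.isometryGroup F (⇑Q), ∀ i, act Q g (e i) = f i := by
  let T : (ι → F) →ₗ[F] (ι → F) := e.constr F f
  have hT : ∀ i, T (e i) = f i := fun i => e.constr_basis F f i
  have hB : (polarBilin Q).compl₁₂ T T = polarBilin Q := by
    apply LinearMap.ext_basis e e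
    intro i j
    rw [LinearMap.compl₁₂_apply, polarBilin_apply_apply, polarBilin_apply_apply, hT, hT, h]
  have hB' : ∀ x y, polar (⇑Q) (T x) (T y) = polar (⇑Q) x y := by
    intro x y
    have := congrArg (fun B => B x y) hB
    simpa using this
  have hTQ : ∀ x, Q (T x) = Q x := by
    intro x
    have := hB' x x
    rw [polar_self', polar_self'] at this
    exact mul_left_cancel₀ h2 this
  have hinj : Function.Injective T := by
    rw [injective_iff_map_eq_zero]
    intro x hx
    apply hQ.1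
    intro y
    rw [polarBilin_apply_apply, ← hB', hx, polar_zero_left]
  have hdet : (LinearMap.toMatrix' T).det ≠ 0 := by
    intro h0
    obtain ⟨v, hv, h1⟩ := Matrix.exists_mulVec_eq_zero_iff.2 h0
    rw [LinearMap.toMatrix'_mulVec] at h1
    exact hv (hinj (by rw [h1, map_zero]))
  have hm : Matrix.GeneralLinearGroup.mkOfDetNeZero _ hdet ∈ Cfsg.isometryGroup F (⇑Q) := by
    rw [mem_isometryGroup_iff]
    intro v
    change Q (Matrix.mulVec (LinearMap.toMatrix' T) v) = Q v
    rw [LinearMap.toMatrix'_mulVec, hTQ]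
  refine ⟨⟨_, hm⟩, fun i => ?_⟩
  rw [← hT]
  change Matrix.mulVec (LinearMap.toMatrix' T) (e i) = T (e i)
  rw [LinearMap.toMatrix'_mulVec]

/-- Transitivity with fixed vectors. -/
theorem exists_fix (h2 : (2 : F) ≠ 0) {x y : ι → F} (hxy : Q x = Q y) (hy : Q y ≠ 0) :
    ∃ g : Cfsg.isometryGroup F (⇑Q), act Q g x = y ∧
      ∀ z, polar (⇑Q) x z = 0 → polar (⇑Q) y z = 0 → act Q g z = z := by
  rcases exists_refl_mul_map h2 Q x y hxy hy with ⟨h, h1⟩ | ⟨h, h1⟩
  · refine ⟨_, h1, fun z hx hz => ?_⟩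
    rw [act_reflIso, polar_sub_left, hx, hz, sub_zero, mul_zero, zero_smul, sub_zero]
  · refine ⟨_, h1, fun z hx hz => ?_⟩
    have e1 : act Q (reflIso Q (x + y) h) z = z := by
      rw [act_reflIso, polar_add_left, hx, hz, add_zero, mul_zero, zero_smul, sub_zero]
    rw [act_mul, e1, act_reflIso, hz, mul_zero, zero_smul, sub_zero]

/-- Transitivity on triples. -/
theorem exists_triple (h2 : (2 : F) ≠ 0) {a b c a' b' c' : ι → F} (ha : Q a = Q a') (hb : Q b = Q b') (hc : Q c = Q c')
    (ha' : Q a' ≠ 0) (hb' : Q b' ≠ 0) (hc' : Q c' ≠ 0) (hab : polar (⇑Q) a b = 0) (hac : polar (⇑Q) a c = 0)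
    (hbc : polar (⇑Q) b c = 0) (hab' : polar (⇑Q) a' b' = 0) (hac' : polar (⇑Q) a' c' = 0)
    (hbc' : polar (⇑Q) b' c' = 0) :
    ∃ g : Cfsg.isometryGroup F (⇑Q), act Q g a = a' ∧ act Q g b = b' ∧ act Q g c = c' := by
  obtain ⟨g1, h1, -⟩ := exists_fix h2 ha ha'
  have hb1 : Q (act Q g1 b) = Q b' := by rw [act_isometry, hb]
  obtain ⟨g2, h2', h2f⟩ := exists_fix h2 hb1 hb'
  have k1 : act Q g2 a' = a' := by
    apply h2f
    · rw [polar_comm, ← h1, act_polar, hab]
    · rw [polar_comm, hab']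
  have hc1 : Q (act Q g2 (act Q g1 c)) = Q c' := by rw [act_isometry, act_isometry, hc]
  obtain ⟨g3, h3, h3f⟩ := exists_fix h2 hc1 hc'
  have k2 : act Q g3 a' = a' := by
    apply h3f
    · rw [polar_comm]
      nth_rewrite 1 [← k1]
      rw [act_polar, ← h1, act_polar, hac]
    · rw [polar_comm, hac']
  have k3 : act Q g3 b' = b' := by
    apply h3f
    · rw [polar_comm, ← h2', act_polar, act_polar, hbc]
    · rw [polar_comm, hbc']
  refine ⟨g3 * (g2 * g1), ?_, ?_, ?_⟩
  · rw [act_mul, act_mul, h1, k1, k2]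
  · rw [act_mul, act_mul, h2', k3]
  · rw [act_mul, act_mul, h3]

/-- Reflections depend on the line only. -/
theorem reflIso_smul {x : ι → F} (hx : Q x ≠ 0) {t : F} (ht : t ≠ 0) (h : Q (t • x) ≠ 0) :
    reflIso Q (t • x) h = reflIso Q x hx := by
  apply act_ext
  intro y
  rw [act_reflIso, act_reflIso, QuadraticMap.map_smul, polar_smul_left, smul_smul]
  congr 2
  simp only [smul_eq_mul]
  field_simp

section fin

variable [Finite F]

/-- Products of two nonsquares. -/
theorem isSquare_mul_of_not {a b : F} (ha : ¬ IsSquare a) (hb : ¬ IsSquare b) : IsSquare (a * b) := by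
  have : Fintype F := Fintype.ofFinite F
  classical
  have ha0 : a ≠ 0 := by rintro rfl; exact ha ⟨0, by simp⟩
  have hb0 : b ≠ 0 := by rintro rfl; exact hb ⟨0, by simp⟩
  have h1 : quadraticChar F a = -1 := quadraticChar_neg_one_iff_not_isSquare.2 ha
  have h3 : quadraticChar F b = -1 := quadraticChar_neg_one_iff_not_isSquare.2 hb
  rw [← quadraticChar_one_iff_isSquare (mul_ne_zero ha0 hb0), map_mul, h1, h3]
  norm_num

/-- Subspaces of dimension at least five represent every value. -/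
theorem rep5 (h2 : (2 : F) ≠ 0) (hQ : (polarBilin Q).Nondegenerate) (h8 : Fintype.card ι = 8)
    (a b c : ι → F) (l : F) :
    ∃ z, Q z = l ∧ polar (⇑Q) a z = 0 ∧ polar (⇑Q) b z = 0 ∧ polar (⇑Q) c z = 0 := by
  let S : Submodule F (ι → F) := Submodule.span F ({a, b, c} : Set (ι → F))
  have hS : finrank F S ≤ 3 := by
    classical
    have h := finrank_span_le_card (R := F) (({a, b, c} : Set (ι → F)))
    refine h.trans ?_
    rw [Set.toFinset_card]
    have : Fintype.card ({a, b, c} : Set (ι → F)) ≤ 3 := by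
      rw [← Set.toFinset_card]
      have : ({a, b, c} : Set (ι → F)).toFinset ⊆ {a, b, c} := by
        intro x hx
        simpa using hx
      exact (Finset.card_le_card this).trans Finset.card_le_three
    exact this
  have h1 := finrank_Pp hQ S
  have h3 := finrank_Pp hQ (Pp Q S)
  have h4 : finrank F (Pp Q S ⊓ Pp Q (Pp Q S) : Submodule F (ι → F)) ≤ finrank F (Pp Q (Pp Q S)) :=
    Submodule.finrank_mono inf_le_right
  obtain ⟨z, hz, hzl⟩ := rep (Q := Q) h2 (W := Pp Q S) (by omega) l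
  refine ⟨z, hzl, hz a ?_, hz b ?_, hz c ?_⟩ <;> apply Submodule.subset_span <;> simp

/-- Orthogonal bases with prescribed values. -/
theorem basis8 (h2 : (2 : F) ≠ 0) (hQ : (polarBilin Q).Nondegenerate) (h8 : Fintype.card ι = 8)
    (hdisc : ∀ b : Basis (Fin 8) F (ι → F), ¬ IsSquare (Matrix.of fun i j => polar (⇑Q) (b i) (b j)).det)
    {m l : F} (hml : ¬ IsSquare (m * l)) :
    ∃ e : Basis (Fin 8) F (ι → F), Q (e 0) = m ∧ (∀ i, i ≠ 0 → Q (e i) = l) ∧
      ∀ i j, i ≠ j → polar (⇑Q) (e i) (e j) = 0 := by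
  have hm0 : m ≠ 0 := by rintro rfl; exact hml ⟨0, by simp⟩
  have hl0 : l ≠ 0 := by rintro rfl; exact hml ⟨0, by simp⟩
  have hfr : finrank F (ι → F) = 8 := by rw [finrank_fintype_fun_eq_card, h8]
  let b : Basis (Fin 8) F (ι → F) := finBasisOfFinrankEq F (ι → F) hfr
  let c : Fin 8 → F := fun i => if i = 0 then 2 * m else 2 * l
  have hc : ∀ i, c i ≠ 0 := by
    intro i
    simp only [c]
    split_ifs
    · exact mul_ne_zero h2 hm0
    · exact mul_ne_zero h2 hl0
  have hprod : ∏ i, c i = (16 * l ^ 3) ^ 2 * (m * l) := by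
    rw [Fin.prod_univ_eight]
    simp only [c]
    simp
    ring
  have hpns : ¬ IsSquare (∏ i, c i) := by
    rw [hprod]
    intro h
    apply hml
    have h16 : (16 * l ^ 3 : F) ≠ 0 := by
      have : (16 : F) = 2 ^ 4 := by norm_num
      rw [this]
      exact mul_ne_zero (pow_ne_zero _ h2) (pow_ne_zero _ hl0)
    obtain ⟨r, hr⟩ := h
    generalize (16 * l ^ 3 : F) = k at *
    refine ⟨k⁻¹ * r, ?_⟩
    have hk : k⁻¹ * k = 1 := inv_mul_cancel₀ h16
    linear_combination (k⁻¹) ^ 2 * hr - (m * l) * (k⁻¹ * k + 1) * hk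
  have hdet : ∃ s : F, (LinearMap.BilinForm.toMatrix b (polarBilin Q)).det = s ^ 2 * ∏ i, c i := by
    have h1 : LinearMap.BilinForm.toMatrix b (polarBilin Q) = Matrix.of fun i j => polar (⇑Q) (b i) (b j) := by
      ext i j
      rw [LinearMap.BilinForm.toMatrix_apply]
      rfl
    have h3 := isSquare_mul_of_not (hdisc b) hpns
    rw [← h1] at h3
    obtain ⟨t, ht⟩ := h3
    have hp0 : ∏ i, c i ≠ 0 := Finset.prod_ne_zero_iff.2 fun i _ => hc i
    refine ⟨t * (∏ i, c i)⁻¹, ?_⟩
    field_simp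
    linear_combination ht
  obtain ⟨s, hs⟩ := hdet
  have hsymm : LinearMap.IsSymm (polarBilin Q) := polarBilin_isSymm Q
  obtain ⟨e, he⟩ := Cfsg.Agent.ClassicalGeometry.Discriminant.exists_basis_diag_fin h2 8 (polarBilin Q)
    (LinearMap.BilinForm.isSymm_iff.2 hsymm) hQ b c hc s hs
  have he' : ∀ i j, polar (⇑Q) (e i) (e j) = if i = j then c i else 0 := he
  refine ⟨e, ?_, ?_, ?_⟩
  · have := he' 0 0
    rw [polar_self', if_pos rfl] at this
    exact mul_left_cancel₀ h2 this
  · intro i hi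
    have := he' i i
    rw [polar_self', if_pos rfl] at this
    simp only [c, if_neg hi] at this
    exact mul_left_cancel₀ h2 this
  · intro i j hij
    rw [he', if_neg hij]

end fin

end Cfsg.Agent.H951.S69
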