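import Cfsg.Agent.H951.S69.Core
import Cfsg.Agent.H214.S69.Defs
import Cfsg.Agent.ClassicalGeometry.OmegaIndex

/-!
# S3469, T6: isometries as permutations
-/

set_option autoImplicit false

universe u v

namespace Cfsg.Agent.H951.S69

open Module QuadraticMap
open Cfsg.Agent.ClassicalGeometry.Reflection Cfsg.Agent.ClassicalGeometry.GenReflections
  Cfsg.Agent.ClassicalGeometry.CartanDieudonne Cfsg.Agent.H146.Ore
open Cfsg.Agent.H903.SylSemi Cfsg.Agent.H214.S69 Cfsg.Agent.ClassicalGeometry.OmegaIndex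

variable {ι : Type} [Fintype ι] [DecidableEq ι] {F : Type u} [Field F]

/-- Isometries as permutations. -/
def pm (Q : QuadraticForm F (ι → F)) : Cfsg.isometryGroup F (⇑Q) →* Equiv.Perm (ι → F) where
  toFun g :=
    { toFun := fun x => act Q g x
      invFun := fun x => act Q g⁻¹ x
      left_inv := fun x => by
        show act Q g⁻¹ (act Q g x) = x
        rw [← act_mul, inv_mul_cancel, act_one]
      right_inv := fun x => by
        show act Q g (act Q g⁻¹ x) = x
        rw [← act_mul, mul_inv_cancel, act_one] }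
  map_one' := Equiv.ext fun x => act_one Q x
  map_mul' g h := Equiv.ext fun x => act_mul Q g h x

variable {Q : QuadraticForm F (ι → F)}

@[simp] theorem pm_apply (g : Cfsg.isometryGroup F (⇑Q)) (x : ι → F) : pm Q g x = act Q g x := rfl

theorem pm_inj {g h : Cfsg.isometryGroup F (⇑Q)} (hgh : pm Q g = pm Q h) : g = h :=
  act_ext Q g h fun x => congrArg (fun y : Equiv.Perm (ι → F) => y x) hgh

/-- A linear bijection preserving the form is an isometry. -/
theorem exists_pm (y : Equiv.Perm (ι → F)) (h1 : ∀ u v, y (u + v) = y u + y v)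
    (h3 : ∀ (a : F) (v : ι → F), y (a • v) = a • y v) (h4 : ∀ v, Q (y v) = Q v) :
    ∃ g : Cfsg.isometryGroup F (⇑Q), pm Q g = y := by
  let T : (ι → F) →ₗ[F] (ι → F) := { toFun := y, map_add' := h1, map_smul' := h3 }
  let e : (ι → F) ≃ₗ[F] (ι → F) := LinearEquiv.ofBijective T y.bijective
  have he : ∀ v, e v = y v := fun v => rfl
  have hu : LinearMap.toMatrix' (e : (ι → F) →ₗ[F] (ι → F)) * LinearMap.toMatrix' (e.symm : (ι → F) →ₗ[F] (ι → F)) = 1 := by
    rw [← LinearMap.toMatrix'_comp]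
    simp
  have hu' : LinearMap.toMatrix' (e.symm : (ι → F) →ₗ[F] (ι → F)) * LinearMap.toMatrix' (e : (ι → F) →ₗ[F] (ι → F)) = 1 := by
    rw [← LinearMap.toMatrix'_comp]
    simp
  let G : Matrix.GeneralLinearGroup ι F := ⟨_, _, hu, hu'⟩
  have hG : ∀ v, (G : Matrix ι ι F).mulVec v = y v := by
    intro v
    show (LinearMap.toMatrix' (e : (ι → F) →ₗ[F] (ι → F))).mulVec v = y v
    rw [← Matrix.toLin'_apply, Matrix.toLin'_toMatrix']
    rfl
  refine ⟨⟨G, (mem_isometryGroup_iff _ _).2 fun v => by rw [hG, h4]⟩, ?_⟩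
  apply Equiv.ext
  intro x
  rw [pm_apply, act_apply]
  exact hG x

/-- The isometries are normalized by the semisimilitudes. -/
theorem conj_pm {y : Equiv.Perm (ι → F)} (hy : SemiO F (⇑Q) y) (g : Cfsg.isometryGroup F (⇑Q)) :
    ∃ g' : Cfsg.isometryGroup F (⇑Q), pm Q g' = y * pm Q g * y⁻¹ := by
  obtain ⟨θ, c, hc, ⟨ha, hs⟩, hq⟩ := hy
  have ha' : ∀ u v, y⁻¹ (u + v) = y⁻¹ u + y⁻¹ v := by
    intro u v
    apply y.injective
    rw [ha]
    simp
  have hs' : ∀ (a : F) (v : ι → F), y⁻¹ (a • v) = θ.symm a • y⁻¹ v := by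
    intro a v
    apply y.injective
    rw [hs]
    simp
  apply exists_pm
  · intro u v
    simp only [Equiv.Perm.mul_apply, ha', pm_apply, map_add, ha]
  · intro a v
    simp only [Equiv.Perm.mul_apply, hs', pm_apply, map_smul, hs, RingEquiv.apply_symm_apply]
  · intro v
    simp only [Equiv.Perm.mul_apply, pm_apply]
    rw [hq, act_isometry, ← hq]
    simp

theorem conj_comm {y : Equiv.Perm (ι → F)} (hy : SemiO F (⇑Q) y) (g : Cfsg.isometryGroup F (⇑Q))
    (hg : g ∈ commutator (Cfsg.isometryGroup F (⇑Q))) :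
    ∃ g' ∈ commutator (Cfsg.isometryGroup F (⇑Q)), pm Q g' = y * pm Q g * y⁻¹ := by
  let R : Subgroup (Equiv.Perm (ι → F)) := (⊤ : Subgroup (Cfsg.isometryGroup F (⇑Q))).map (pm Q)
  have hR : R.map (MulAut.conj y).toMonoidHom ≤ R := by
    rintro _ ⟨_, ⟨h, -, rfl⟩, rfl⟩
    obtain ⟨g', hg'⟩ := conj_pm hy h
    exact ⟨g', Subgroup.mem_top _, hg'⟩
  have h1 : ⁅R, R⁆ = (commutator (Cfsg.isometryGroup F (⇑Q))).map (pm Q) := by
    rw [commutator_def, Subgroup.map_commutator]
  have h2 : y * pm Q g * y⁻¹ ∈ ⁅R, R⁆ := by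
    have h3 : (⁅R, R⁆).map (MulAut.conj y).toMonoidHom ≤ ⁅R, R⁆ := by
      rw [Subgroup.map_commutator]
      exact Subgroup.commutator_mono hR hR
    apply h3
    refine ⟨pm Q g, ?_, rfl⟩
    rw [h1]
    exact ⟨g, hg, rfl⟩
  rw [h1] at h2
  obtain ⟨g', h3, h4⟩ := h2
  exact ⟨g', h3, h4⟩

theorem omega_pm (g : Cfsg.isometryGroup F (⇑Q)) (hg : g ∈ commutator (Cfsg.isometryGroup F (⇑Q))) :
    IsOmegaMap F (⇑Q) (pm Q g) :=
  ⟨⟨g, hg⟩, fun v => rfl⟩

/-- `-1` -/
theorem exists_neg (Q : QuadraticForm F (ι → F)) : ∃ g : Cfsg.isometryGroup F (⇑Q), ∀ x, act Q g x = -x := by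
  obtain ⟨g, hg⟩ := exists_pm (Q := Q) (Equiv.neg (ι → F)) (fun u v => neg_add u v) (fun a v => (smul_neg a v).symm)
    (fun v => QuadraticMap.map_neg Q v)
  exact ⟨g, fun x => congrArg (fun y : Equiv.Perm (ι → F) => y x) hg⟩

/-- All isometries are induced by the group of the frame. -/
theorem all_mem [Finite F] (h2 : (2 : F) ≠ 0) (hQ : (polarBilin Q).Nondegenerate) (h8 : Fintype.card ι = 8)
    (hdisc : ∀ b : Basis (Fin 8) F (ι → F), ¬ IsSquare (Matrix.of fun i j => polar (⇑Q) (b i) (b j)).det)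
    (S : Subgroup (Cfsg.isometryGroup F (⇑Q))) (hS : commutator (Cfsg.isometryGroup F (⇑Q)) ≤ S)
    (hneg : ∀ g : Cfsg.isometryGroup F (⇑Q), (∀ x, act Q g x = -x) → g ∈ S)
    (a : Cfsg.isometryGroup F (⇑Q)) (ha : a ∈ S)
    (hdet : ((a : Matrix.GeneralLinearGroup ι F) : Matrix ι ι F).det = -1) : S = ⊤ := by
  have : Fintype F := Fintype.ofFinite F
  have h2' : ringChar F ≠ 2 := by
    intro h
    have : CharP F 2 := by rw [← h]; infer_instance
    exact h2 (CharTwo.two_eq_zero)
  obtain ⟨n, hn⟩ := FiniteField.exists_nonsquare h2'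
  obtain ⟨e, he0, hel, ho⟩ := basis8 h2 hQ h8 hdisc (m := 1) (l := n) (by rwa [one_mul])
  have hn0 : n ≠ 0 := by rintro rfl; exact hn ⟨0, by simp⟩
  have hq : ∀ i, Q (e i) ≠ 0 := by
    intro i
    by_cases h : i = 0
    · rw [h, he0]; exact one_ne_zero
    · rw [hel i h]; exact hn0
  have hγ : ∀ i k, act Q (reflIso Q (e i) (hq i)) (e k) = if i = k then -e k else e k := by
    intro i k
    by_cases h : i = k
    · subst h
      rw [if_pos rfl, act_reflIso, polar_self']
      have : (Q (e i))⁻¹ * (2 * Q (e i)) = 2 := by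
        have := hq i
        field_simp
      rw [this, two_smul]
      abel
    · rw [if_neg h, act_reflIso, ho i k h, mul_zero, zero_smul, sub_zero]
  let P : Cfsg.isometryGroup F (⇑Q) := reflIso Q (e 0) (hq 0) * (reflIso Q (e 1) (hq 1) * (reflIso Q (e 2) (hq 2) *
    (reflIso Q (e 3) (hq 3) * (reflIso Q (e 4) (hq 4) * (reflIso Q (e 5) (hq 5) * (reflIso Q (e 6) (hq 6) *
    reflIso Q (e 7) (hq 7)))))))
  have hP : act Q P = -LinearMap.id := by
    apply e.ext
    intro k
    simp only [P, act_mul]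
    fin_cases k <;> simp [hγ]
  set α := Abelianization.of (reflIso Q (e 0) (hq 0)) with hα
  set β := Abelianization.of (reflIso Q (e 1) (hq 1)) with hβ
  have hα2 : α * α = 1 := by rw [hα, ← map_mul, reflIso_mul_self, map_one]
  have hβ2 : β * β = 1 := by rw [hβ, ← map_mul, reflIso_mul_self, map_one]
  have hβi : ∀ i, i ≠ 0 → Abelianization.of (reflIso Q (e i) (hq i)) = β := by
    intro i hi
    apply abelianization_of_reflIso_eq h2
    rw [hel i hi, hel 1 (by decide)]
    exact ⟨n, rfl⟩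
  have hPab : Abelianization.of P = α * β := by
    simp only [P, map_mul, hβi 7 (by decide), hβi 6 (by decide), hβi 5 (by decide), hβi 4 (by decide),
      hβi 3 (by decide), hβi 2 (by decide), ← hβ, ← hα, hβ2, mul_one]
  have hPS : P ∈ S := hneg P fun x => by rw [hP]; rfl
  -- membership depends only on the class
  have hcl : ∀ g h : Cfsg.isometryGroup F (⇑Q), h ∈ S → Abelianization.of g = Abelianization.of h → g ∈ S := by
    intro g h hh he
    have h1 : g * h⁻¹ ∈ commutator (Cfsg.isometryGroup F (⇑Q)) := by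
      rw [← Abelianization.ker_of, MonoidHom.mem_ker, map_mul, map_inv, he, mul_inv_cancel]
    have h3 := S.mul_mem (hS h1) hh
    rwa [inv_mul_cancel_right] at h3
  have hcase := abelianization_cases h2 Q hQ (one_ne_zero (α := F)) (e 0) (e 1) (hq 0) (hq 1)
    (by rw [he0, one_mul]; exact IsSquare.one) (by rw [hel 1 (by decide), one_mul]; exact hn)
  -- the determinant
  let D : Abelianization (Cfsg.isometryGroup F (⇑Q)) →* Fˣ :=
    Abelianization.lift (Matrix.GeneralLinearGroup.det.comp (Cfsg.isometryGroup F (⇑Q)).subtype)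
  have hD : ∀ g : Cfsg.isometryGroup F (⇑Q), ((D (Abelianization.of g) : Fˣ) : F) =
      ((g : Matrix.GeneralLinearGroup ι F) : Matrix ι ι F).det := fun g => by
    simp only [D, Abelianization.lift_apply_of]
    rfl
  have hDα : ((D α : Fˣ) : F) = -1 := by rw [hα, hD]; exact det_reflIso Q _ _
  have hDβ : ((D β : Fˣ) : F) = -1 := by rw [hβ, hD]; exact det_reflIso Q _ _
  have hDa := hD a
  rw [hdet] at hDa
  have hne : (1 : F) ≠ -1 := by
    intro h
    apply h2
    linear_combination h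
  have hab : Abelianization.of a = α ∨ Abelianization.of a = β := by
    rcases hcase (Abelianization.of a) with h | h | h | h
    · rw [h, map_one, Units.val_one] at hDa
      exact absurd hDa hne
    · exact Or.inl h
    · exact Or.inr h
    · rw [h, ← hα, ← hβ, map_mul, Units.val_mul, hDα, hDβ, neg_one_mul, neg_neg] at hDa
      exact absurd hDa hne
  have hS0 : reflIso Q (e 0) (hq 0) ∈ S ∧ reflIso Q (e 1) (hq 1) ∈ S := by
    rcases hab with h | h
    · have h1 : reflIso Q (e 0) (hq 0) ∈ S := hcl _ a ha (by rw [h])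
      refine ⟨h1, hcl _ (reflIso Q (e 0) (hq 0) * P) (S.mul_mem h1 hPS) ?_⟩
      rw [map_mul, hPab, ← hα, ← mul_assoc, hα2, one_mul]
    · have h1 : reflIso Q (e 1) (hq 1) ∈ S := hcl _ a ha (by rw [h])
      refine ⟨hcl _ (P * reflIso Q (e 1) (hq 1)) (S.mul_mem hPS h1) ?_, h1⟩
      rw [map_mul, hPab, ← hβ, mul_assoc, hβ2, mul_one]
  rw [eq_top_iff]
  intro g _
  rcases hcase (Abelianization.of g) with h | h | h | h
  · exact hcl g 1 S.one_mem (by rw [h, map_one])
  · exact hcl g _ hS0.1 h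
  · exact hcl g _ hS0.2 h
  · exact hcl g _ (S.mul_mem hS0.1 hS0.2) (by rw [h, map_mul])

end Cfsg.Agent.H951.S69
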